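import Cfsg.Agent.Lib.Helper93.L34.ValidL3p0
import Cfsg.Agent.Lib.Helper93.L34.ValidL3p1

set_option autoImplicit false
set_option maxRecDepth 1000000
set_option maxHeartbeats 0
set_option Elab.async false

namespace Cfsg.Agent.Lib.Helper30.L34.Mod

open Cfsg.Agent.Lib.Helper93.BigPerm Cfsg.Agent.Lib.Helper89.CosetCert Cfsg.Agent.Lib.Helper89.SafePres

theorem validL3 : ∀ r ∈ Cfsg.Agent.Lib.Helper30.L34.L3.srels0.map SRel.word, ev (Model.gm Md_ok) r = 1 := by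
  refine Model.forall_mem_of_getD (Cfsg.Agent.Lib.Helper30.L34.L3.srels0.map SRel.word) [] (fun r => ev (Model.gm Md_ok) r = 1) 19 (by rfl) ?_
  intro j hj
  interval_cases j
  · exact Model.ev_one_of_chk1 Md_ok _ vL3_0
  · exact Model.ev_one_of_chk1 Md_ok _ vL3_1
  · exact Model.ev_one_of_chk1 Md_ok _ vL3_2
  · exact Model.ev_one_of_chk1 Md_ok _ vL3_3
  · exact Model.ev_one_of_chk1 Md_ok _ vL3_4
  · exact Model.ev_one_of_chk1 Md_ok _ vL3_5
  · exact Model.ev_one_of_chk1 Md_ok _ vL3_6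
  · exact Model.ev_one_of_chk1 Md_ok _ vL3_7
  · exact Model.ev_one_of_chk1 Md_ok _ vL3_8
  · exact Model.ev_one_of_chk1 Md_ok _ vL3_9
  · exact Model.ev_one_of_chk1 Md_ok _ vL3_10
  · exact Model.ev_one_of_chk1 Md_ok _ vL3_11
  · exact Model.ev_one_of_chk1 Md_ok _ vL3_12
  · exact Model.ev_one_of_chk1 Md_ok _ vL3_13
  · exact Model.ev_one_of_chk1 Md_ok _ vL3_14
  · exact Model.ev_one_of_chk1 Md_ok _ vL3_15
  · exact Model.ev_one_of_chk1 Md_ok _ vL3_16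
  · exact Model.ev_one_of_chk1 Md_ok _ vL3_17
  · exact Model.ev_one_of_chk1 Md_ok _ vL3_18

end Cfsg.Agent.Lib.Helper30.L34.Mod
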