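import Cfsg.Agent.Lib.Helper93.L34.ModData
import Cfsg.Agent.Lib.Helper30.L34.L4Rels

set_option autoImplicit false
set_option maxRecDepth 1000000
set_option maxHeartbeats 0
set_option Elab.async false

namespace Cfsg.Agent.Lib.Helper30.L34.Mod

open Cfsg.Agent.Lib.Helper93.BigPerm Cfsg.Agent.Lib.Helper89.CosetCert Cfsg.Agent.Lib.Helper89.SafePres

theorem vL4_12 : Md.chk ((Cfsg.Agent.Lib.Helper30.L34.L4.srels0.map SRel.word).getD 12 []) 0 959 = true := by decide +kernel

theorem vL4_13 : Md.chk ((Cfsg.Agent.Lib.Helper30.L34.L4.srels0.map SRel.word).getD 13 []) 0 959 = true := by decide +kernel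

theorem vL4_14 : Md.chk ((Cfsg.Agent.Lib.Helper30.L34.L4.srels0.map SRel.word).getD 14 []) 0 959 = true := by decide +kernel

theorem vL4_15 : Md.chk ((Cfsg.Agent.Lib.Helper30.L34.L4.srels0.map SRel.word).getD 15 []) 0 959 = true := by decide +kernel

theorem vL4_16 : Md.chk ((Cfsg.Agent.Lib.Helper30.L34.L4.srels0.map SRel.word).getD 16 []) 0 959 = true := by decide +kernel

theorem vL4_17 : Md.chk ((Cfsg.Agent.Lib.Helper30.L34.L4.srels0.map SRel.word).getD 17 []) 0 959 = true := by decide +kernel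

theorem vL4_18 : Md.chk ((Cfsg.Agent.Lib.Helper30.L34.L4.srels0.map SRel.word).getD 18 []) 0 959 = true := by decide +kernel

theorem vL4_19 : Md.chk ((Cfsg.Agent.Lib.Helper30.L34.L4.srels0.map SRel.word).getD 19 []) 0 959 = true := by decide +kernel

theorem vL4_20 : Md.chk ((Cfsg.Agent.Lib.Helper30.L34.L4.srels0.map SRel.word).getD 20 []) 0 959 = true := by decide +kernel

theorem vL4_21 : Md.chk ((Cfsg.Agent.Lib.Helper30.L34.L4.srels0.map SRel.word).getD 21 []) 0 959 = true := by decide +kernel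

theorem vL4_22 : Md.chk ((Cfsg.Agent.Lib.Helper30.L34.L4.srels0.map SRel.word).getD 22 []) 0 959 = true := by decide +kernel

theorem vL4_23 : Md.chk ((Cfsg.Agent.Lib.Helper30.L34.L4.srels0.map SRel.word).getD 23 []) 0 959 = true := by decide +kernel

end Cfsg.Agent.Lib.Helper30.L34.Mod
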