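import Cfsg.Agent.Lib.Helper93.L34.ModData
import Cfsg.Agent.Lib.Helper30.L34.L4Rels

set_option autoImplicit false
set_option maxRecDepth 1000000
set_option maxHeartbeats 0
set_option Elab.async false

namespace Cfsg.Agent.Lib.Helper30.L34.Mod

open Cfsg.Agent.Lib.Helper93.BigPerm Cfsg.Agent.Lib.Helper89.CosetCert Cfsg.Agent.Lib.Helper89.SafePres

theorem vL4_36 : Md.chk ((Cfsg.Agent.Lib.Helper30.L34.L4.srels0.map SRel.word).getD 36 []) 0 959 = true := by decide +kernel

theorem vL4_37 : Md.chk ((Cfsg.Agent.Lib.Helper30.L34.L4.srels0.map SRel.word).getD 37 []) 0 959 = true := by decide +kernel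

theorem vL4_38 : Md.chk ((Cfsg.Agent.Lib.Helper30.L34.L4.srels0.map SRel.word).getD 38 []) 0 959 = true := by decide +kernel

theorem vL4_39 : Md.chk ((Cfsg.Agent.Lib.Helper30.L34.L4.srels0.map SRel.word).getD 39 []) 0 959 = true := by decide +kernel

theorem vL4_40 : Md.chk ((Cfsg.Agent.Lib.Helper30.L34.L4.srels0.map SRel.word).getD 40 []) 0 959 = true := by decide +kernel

theorem vL4_41 : Md.chk ((Cfsg.Agent.Lib.Helper30.L34.L4.srels0.map SRel.word).getD 41 []) 0 959 = true := by decide +kernel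

theorem vL4_42 : Md.chk ((Cfsg.Agent.Lib.Helper30.L34.L4.srels0.map SRel.word).getD 42 []) 0 959 = true := by decide +kernel

theorem vL4_43 : Md.chk ((Cfsg.Agent.Lib.Helper30.L34.L4.srels0.map SRel.word).getD 43 []) 0 959 = true := by decide +kernel

theorem vL4_44 : Md.chk ((Cfsg.Agent.Lib.Helper30.L34.L4.srels0.map SRel.word).getD 44 []) 0 959 = true := by decide +kernel

theorem vL4_45 : Md.chk ((Cfsg.Agent.Lib.Helper30.L34.L4.srels0.map SRel.word).getD 45 []) 0 959 = true := by decide +kernel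

theorem vL4_46 : Md.chk ((Cfsg.Agent.Lib.Helper30.L34.L4.srels0.map SRel.word).getD 46 []) 0 959 = true := by decide +kernel

end Cfsg.Agent.Lib.Helper30.L34.Mod
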