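import Cfsg.Agent.Lib.Helper93.L34.ValidL4p0
import Cfsg.Agent.Lib.Helper93.L34.ValidL4p1
import Cfsg.Agent.Lib.Helper93.L34.ValidL4p2
import Cfsg.Agent.Lib.Helper93.L34.ValidL4p3

set_option autoImplicit false
set_option maxRecDepth 1000000
set_option maxHeartbeats 0
set_option Elab.async false

namespace Cfsg.Agent.Lib.Helper30.L34.Mod

open Cfsg.Agent.Lib.Helper93.BigPerm Cfsg.Agent.Lib.Helper89.CosetCert Cfsg.Agent.Lib.Helper89.SafePres

theorem validL4 : ∀ r ∈ Cfsg.Agent.Lib.Helper30.L34.L4.srels0.map SRel.word, ev (Model.gm Md_ok) r = 1 := by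
  refine Model.forall_mem_of_getD (Cfsg.Agent.Lib.Helper30.L34.L4.srels0.map SRel.word) [] (fun r => ev (Model.gm Md_ok) r = 1) 47 (by rfl) ?_
  intro j hj
  interval_cases j
  · exact Model.ev_one_of_chk1 Md_ok _ vL4_0
  · exact Model.ev_one_of_chk1 Md_ok _ vL4_1
  · exact Model.ev_one_of_chk1 Md_ok _ vL4_2
  · exact Model.ev_one_of_chk1 Md_ok _ vL4_3
  · exact Model.ev_one_of_chk1 Md_ok _ vL4_4
  · exact Model.ev_one_of_chk1 Md_ok _ vL4_5
  · exact Model.ev_one_of_chk1 Md_ok _ vL4_6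
  · exact Model.ev_one_of_chk1 Md_ok _ vL4_7
  · exact Model.ev_one_of_chk1 Md_ok _ vL4_8
  · exact Model.ev_one_of_chk1 Md_ok _ vL4_9
  · exact Model.ev_one_of_chk1 Md_ok _ vL4_10
  · exact Model.ev_one_of_chk1 Md_ok _ vL4_11
  · exact Model.ev_one_of_chk1 Md_ok _ vL4_12
  · exact Model.ev_one_of_chk1 Md_ok _ vL4_13
  · exact Model.ev_one_of_chk1 Md_ok _ vL4_14
  · exact Model.ev_one_of_chk1 Md_ok _ vL4_15
  · exact Model.ev_one_of_chk1 Md_ok _ vL4_16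
  · exact Model.ev_one_of_chk1 Md_ok _ vL4_17
  · exact Model.ev_one_of_chk1 Md_ok _ vL4_18
  · exact Model.ev_one_of_chk1 Md_ok _ vL4_19
  · exact Model.ev_one_of_chk1 Md_ok _ vL4_20
  · exact Model.ev_one_of_chk1 Md_ok _ vL4_21
  · exact Model.ev_one_of_chk1 Md_ok _ vL4_22
  · exact Model.ev_one_of_chk1 Md_ok _ vL4_23
  · exact Model.ev_one_of_chk1 Md_ok _ vL4_24
  · exact Model.ev_one_of_chk1 Md_ok _ vL4_25
  · exact Model.ev_one_of_chk1 Md_ok _ vL4_26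
  · exact Model.ev_one_of_chk1 Md_ok _ vL4_27
  · exact Model.ev_one_of_chk1 Md_ok _ vL4_28
  · exact Model.ev_one_of_chk1 Md_ok _ vL4_29
  · exact Model.ev_one_of_chk1 Md_ok _ vL4_30
  · exact Model.ev_one_of_chk1 Md_ok _ vL4_31
  · exact Model.ev_one_of_chk1 Md_ok _ vL4_32
  · exact Model.ev_one_of_chk1 Md_ok _ vL4_33
  · exact Model.ev_one_of_chk1 Md_ok _ vL4_34
  · exact Model.ev_one_of_chk1 Md_ok _ vL4_35
  · exact Model.ev_one_of_chk1 Md_ok _ vL4_36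
  · exact Model.ev_one_of_chk1 Md_ok _ vL4_37
  · exact Model.ev_one_of_chk1 Md_ok _ vL4_38
  · exact Model.ev_one_of_chk1 Md_ok _ vL4_39
  · exact Model.ev_one_of_chk1 Md_ok _ vL4_40
  · exact Model.ev_one_of_chk1 Md_ok _ vL4_41
  · exact Model.ev_one_of_chk1 Md_ok _ vL4_42
  · exact Model.ev_one_of_chk1 Md_ok _ vL4_43
  · exact Model.ev_one_of_chk1 Md_ok _ vL4_44
  · exact Model.ev_one_of_chk1 Md_ok _ vL4_45
  · exact Model.ev_one_of_chk1 Md_ok _ vL4_46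

end Cfsg.Agent.Lib.Helper30.L34.Mod
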