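import Cfsg.Agent.Lib.Helper93.L34.ValidL2p0

set_option autoImplicit false
set_option maxRecDepth 1000000
set_option maxHeartbeats 0
set_option Elab.async false

namespace Cfsg.Agent.Lib.Helper30.L34.Mod

open Cfsg.Agent.Lib.Helper93.BigPerm Cfsg.Agent.Lib.Helper89.CosetCert Cfsg.Agent.Lib.Helper89.SafePres

theorem validL2 : ∀ r ∈ Cfsg.Agent.Lib.Helper30.L34.L2.srels0.map SRel.word, ev (Model.gm Md_ok) r = 1 := by
  refine Model.forall_mem_of_getD (Cfsg.Agent.Lib.Helper30.L34.L2.srels0.map SRel.word) [] (fun r => ev (Model.gm Md_ok) r = 1) 10 (by rfl) ?_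
  intro j hj
  interval_cases j
  · exact Model.ev_one_of_chk1 Md_ok _ vL2_0
  · exact Model.ev_one_of_chk1 Md_ok _ vL2_1
  · exact Model.ev_one_of_chk1 Md_ok _ vL2_2
  · exact Model.ev_one_of_chk1 Md_ok _ vL2_3
  · exact Model.ev_one_of_chk1 Md_ok _ vL2_4
  · exact Model.ev_one_of_chk1 Md_ok _ vL2_5
  · exact Model.ev_one_of_chk1 Md_ok _ vL2_6
  · exact Model.ev_one_of_chk1 Md_ok _ vL2_7
  · exact Model.ev_one_of_chk1 Md_ok _ vL2_8
  · exact Model.ev_one_of_chk1 Md_ok _ vL2_9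

end Cfsg.Agent.Lib.Helper30.L34.Mod
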