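import Cfsg.Agent.Lib.Helper93.L34.ModData
import Cfsg.Agent.Lib.Helper30.L34.L4Rels

set_option autoImplicit false
set_option maxRecDepth 1000000
set_option maxHeartbeats 0
set_option Elab.async false

namespace Cfsg.Agent.Lib.Helper30.L34.Mod

open Cfsg.Agent.Lib.Helper93.BigPerm Cfsg.Agent.Lib.Helper89.CosetCert Cfsg.Agent.Lib.Helper89.SafePres

theorem vL4_0 : Md.chk ((Cfsg.Agent.Lib.Helper30.L34.L4.srels0.map SRel.word).getD 0 []) 0 959 = true := by decide +kernel

theorem vL4_1 : Md.chk ((Cfsg.Agent.Lib.Helper30.L34.L4.srels0.map SRel.word).getD 1 []) 0 959 = true := by decide +kernel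

theorem vL4_2 : Md.chk ((Cfsg.Agent.Lib.Helper30.L34.L4.srels0.map SRel.word).getD 2 []) 0 959 = true := by decide +kernel

theorem vL4_3 : Md.chk ((Cfsg.Agent.Lib.Helper30.L34.L4.srels0.map SRel.word).getD 3 []) 0 959 = true := by decide +kernel

theorem vL4_4 : Md.chk ((Cfsg.Agent.Lib.Helper30.L34.L4.srels0.map SRel.word).getD 4 []) 0 959 = true := by decide +kernel

theorem vL4_5 : Md.chk ((Cfsg.Agent.Lib.Helper30.L34.L4.srels0.map SRel.word).getD 5 []) 0 959 = true := by decide +kernel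

theorem vL4_6 : Md.chk ((Cfsg.Agent.Lib.Helper30.L34.L4.srels0.map SRel.word).getD 6 []) 0 959 = true := by decide +kernel

theorem vL4_7 : Md.chk ((Cfsg.Agent.Lib.Helper30.L34.L4.srels0.map SRel.word).getD 7 []) 0 959 = true := by decide +kernel

theorem vL4_8 : Md.chk ((Cfsg.Agent.Lib.Helper30.L34.L4.srels0.map SRel.word).getD 8 []) 0 959 = true := by decide +kernel

theorem vL4_9 : Md.chk ((Cfsg.Agent.Lib.Helper30.L34.L4.srels0.map SRel.word).getD 9 []) 0 959 = true := by decide +kernel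

theorem vL4_10 : Md.chk ((Cfsg.Agent.Lib.Helper30.L34.L4.srels0.map SRel.word).getD 10 []) 0 959 = true := by decide +kernel

theorem vL4_11 : Md.chk ((Cfsg.Agent.Lib.Helper30.L34.L4.srels0.map SRel.word).getD 11 []) 0 959 = true := by decide +kernel

end Cfsg.Agent.Lib.Helper30.L34.Mod
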